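-- Team project FOT (S3999): package [SYL6] (helper11).
import Mathlib
import Cfsg.Agent.Lib.Helper50.FOT.Defs

/-!
# FOT [SYL6]: a finite solvable group never has exactly six Sylow 5-subgroups
-/

set_option autoImplicit false

namespace Cfsg.Agent.Lib.Helper11.FOT

open Cfsg.Agent.Lib.Helper50.FOT
open scoped commutatorElement

universe u

/-- a nontrivial finite solvable group has a nontrivial normal `q`-subgroup -/
theorem exists_normal_pgroup (H : Type u) [Group H] [Finite H] [Nontrivial H]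
    (hs : Group.IsSolvable H) :
    ∃ (q : ℕ) (A : Subgroup H), q.Prime ∧ A.Normal ∧ IsPGroup q A ∧ A ≠ ⊥ := by
  classical
  have hex : ∃ n, derivedSeries H n = ⊥ := hs.solvable
  obtain ⟨m, hm⟩ : ∃ m, m = Nat.find hex := ⟨_, rfl⟩
  have hspec : derivedSeries H m = ⊥ := hm ▸ Nat.find_spec hex
  have hm0 : m ≠ 0 := by
    intro h0
    rw [h0, derivedSeries_zero] at hspec
    exact top_ne_bot hspec
  obtain ⟨k, hk⟩ := Nat.exists_eq_succ_of_ne_zero hm0
  have hD1 : derivedSeries H k ≠ ⊥ := Nat.find_min hex (by omega)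
  have hD2 : derivedSeries H (k + 1) = ⊥ := by
    rw [← Nat.succ_eq_add_one, ← hk]
    exact hspec
  obtain ⟨D, hD⟩ : ∃ D : Subgroup H, D = derivedSeries H k := ⟨_, rfl⟩
  rw [← hD] at hD1
  have hDn : D.Normal := hD ▸ derivedSeries_normal H k
  have hcomm : ∀ x ∈ D, ∀ y ∈ D, x * y = y * x := by
    intro x hx y hy
    have h1 : ⁅x, y⁆ ∈ derivedSeries H (k + 1) := by
      rw [derivedSeries_succ, ← hD]
      exact Subgroup.commutator_mem_commutator hx hy
    rw [hD2, Subgroup.mem_bot] at h1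
    exact (commutatorElement_eq_one_iff_commute.mp h1).eq
  have hcard : Nat.card D ≠ 1 := fun h1 => hD1 (Subgroup.card_eq_one.mp h1)
  obtain ⟨q, hq, hqd⟩ := Nat.exists_prime_and_dvd hcard
  haveI : Fact q.Prime := ⟨hq⟩
  obtain ⟨x, hx⟩ := exists_prime_orderOf_dvd_card' q hqd
  let A : Subgroup H :=
    { carrier := {y | y ∈ D ∧ y ^ q = 1}
      mul_mem' := by
        rintro a b ⟨ha, ha'⟩ ⟨hb, hb'⟩
        refine ⟨D.mul_mem ha hb, ?_⟩
        have hc : Commute a b := hcomm a ha b hb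
        rw [hc.mul_pow, ha', hb', one_mul]
      one_mem' := ⟨D.one_mem, one_pow q⟩
      inv_mem' := by
        rintro a ⟨ha, ha'⟩
        exact ⟨D.inv_mem ha, by rw [inv_pow, ha', inv_one]⟩ }
  have hAmem : ∀ y, y ∈ A ↔ y ∈ D ∧ y ^ q = 1 := fun y => Iff.rfl
  refine ⟨q, A, hq, ⟨?_⟩, ?_, ?_⟩
  · intro a ha g
    obtain ⟨ha1, ha2⟩ := (hAmem a).mp ha
    refine (hAmem _).mpr ⟨hDn.conj_mem a ha1 g, ?_⟩
    rw [conj_pow, ha2, mul_one, mul_inv_cancel]
  · rintro ⟨a, ha⟩
    refine ⟨1, ?_⟩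
    apply Subtype.ext
    rw [pow_one]
    exact ((hAmem a).mp ha).2
  · intro hbot
    have hxq : (x : H) ^ q = 1 := by
      have := pow_orderOf_eq_one x
      rw [hx] at this
      exact_mod_cast congrArg Subtype.val this
    have hxA : (x : H) ∈ A := (hAmem _).mpr ⟨x.2, hxq⟩
    rw [hbot, Subgroup.mem_bot] at hxA
    have hx1 : x = 1 := Subtype.ext hxA
    rw [hx1, orderOf_one] at hx
    exact hq.one_lt.ne hx

theorem syl6_aux : ∀ (n : ℕ) (H : Type u) [Group H] [Finite H], Nat.card H = n →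
    Group.IsSolvable H → Nat.card (Sylow 5 H) ≠ 6 := by
  intro n
  induction n using Nat.strong_induction_on with
  | _ n ih =>
  intro H _ _ hn hs h6
  haveI : Fact (Nat.Prime 5) := ⟨by norm_num⟩
  obtain ⟨P⟩ : Nonempty (Sylow 5 H) := inferInstance
  have hcardH : 6 ∣ Nat.card H := by
    have h1 := P.card_dvd_index
    rw [h6] at h1
    exact h1.trans (Subgroup.index_dvd_card _)
  haveI : Nontrivial H := by
    rw [← Finite.one_lt_card_iff_nontrivial]
    have := Nat.le_of_dvd Nat.card_pos hcardH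
    omega
  obtain ⟨q, A, hq, hAn, hAp, hAne⟩ := exists_normal_pgroup H hs
  haveI := hAn
  haveI := hs
  haveI : Fact q.Prime := ⟨hq⟩
  have hsq : Group.IsSolvable (H ⧸ A) := inferInstance
  have hlt : Nat.card (H ⧸ A) < n := by
    have h1 : Nat.card H = Nat.card (H ⧸ A) * Nat.card A :=
      Subgroup.card_eq_card_quotient_mul_card_subgroup A
    have h2 : 1 < Nat.card A := (A.one_lt_card_iff_ne_bot).mpr hAne
    have h3 : 0 < Nat.card (H ⧸ A) := Nat.card_pos
    rw [← hn, h1]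
    nlinarith
  have ihq := ih _ hlt (H ⧸ A) rfl hsq
  obtain ⟨N1, hN1⟩ : ∃ N1 : Subgroup H, N1 = Subgroup.normalizer ((P : Subgroup H) : Set H) :=
    ⟨_, rfl⟩
  have hN1i : N1.index = 6 := by
    rw [hN1, ← h6]
    exact (P.card_eq_index_normalizer).symm
  obtain ⟨M, hM⟩ : ∃ M : Subgroup H, M = (P : Subgroup H) ⊔ A := ⟨_, rfl⟩
  obtain ⟨N2, hN2⟩ : ∃ N2 : Subgroup H, N2 = Subgroup.normalizer (M : Set H) := ⟨_, rfl⟩
  have hπ : Function.Surjective (QuotientGroup.mk' A) := QuotientGroup.mk'_surjective A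
  have hPp : IsPGroup 5 ((P : Subgroup H).map (QuotientGroup.mk' A)) :=
    P.isPGroup'.map (QuotientGroup.mk' A)
  have hPi : ¬ 5 ∣ ((P : Subgroup H).map (QuotientGroup.mk' A)).index := fun h =>
    P.not_dvd_index (h.trans (Subgroup.index_map_dvd _ hπ))
  have hbar : Nat.card (Sylow 5 (H ⧸ A)) = N2.index := by
    have e : ((hPp.toSylow hPi : Sylow 5 (H ⧸ A)) : Set (H ⧸ A)) =
        (((P : Subgroup H).map (QuotientGroup.mk' A) : Subgroup (H ⧸ A)) : Set (H ⧸ A)) := rfl
    rw [(hPp.toSylow hPi).card_eq_index_normalizer, e,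
      ← Subgroup.index_comap_of_surjective _ hπ, Subgroup.comap_normalizer_eq_of_surjective _ hπ,
      Subgroup.comap_map_eq, QuotientGroup.ker_mk', hN2, hM]
  have hle : N1 ≤ N2 := by
    have key : ∀ g ∈ N1, ∀ h ∈ M, g * h * g⁻¹ ∈ M := by
      intro g hg
      have hsub : M ≤ M.comap (MulAut.conj g).toMonoidHom := by
        rw [hM]
        refine sup_le ?_ ?_
        · intro x hx
          rw [hN1] at hg
          have h1 : g * x * g⁻¹ ∈ (P : Subgroup H) :=
            (Subgroup.mem_normalizer_iff.mp hg x).mp hx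
          exact Subgroup.mem_sup_left h1
        · intro x hx
          exact Subgroup.mem_sup_right (hAn.conj_mem x hx g)
      intro h hh
      exact hsub hh
    intro g hg
    rw [hN2, Subgroup.mem_normalizer_iff]
    intro h
    refine ⟨key g hg h, fun hh => ?_⟩
    have h1 := key g⁻¹ (N1.inv_mem hg) _ hh
    simpa [mul_assoc] using h1
  have hdiv : N2.index ∣ 6 := by
    rw [← hN1i]
    exact Subgroup.index_dvd_of_le hle
  have hmod : Nat.card (Sylow 5 (H ⧸ A)) ≡ 1 [MOD 5] := card_sylow_modEq_one 5 (H ⧸ A)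
  have hN2i : N2.index = 1 := by
    rw [hbar] at ihq hmod
    have h7 : N2.index ≤ 6 := Nat.le_of_dvd (by norm_num) hdiv
    have hm5 : N2.index % 5 = 1 := hmod
    omega
  have hMn : M.Normal := Subgroup.normalizer_eq_top_iff.mp (hN2 ▸ Subgroup.index_eq_one.mp hN2i)
  haveI := hMn
  have hfr : N1 ⊔ M = ⊤ := by
    rw [hN1]
    exact Sylow.normalizer_sup_eq_top' P (hM ▸ le_sup_left)
  have hfr2 : N1 ⊔ A = ⊤ := by
    have hP1 : (P : Subgroup H) ≤ N1 := hN1 ▸ Subgroup.le_normalizer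
    rw [hM, ← sup_assoc, sup_eq_left.mpr hP1] at hfr
    exact hfr
  have hc1 : Nat.card A * A.index = Nat.card H := Subgroup.card_mul_index A
  have hc2 : Nat.card N1 * N1.index = Nat.card H := Subgroup.card_mul_index N1
  have hc3 : A.relIndex N1 = A.index := by
    rw [← Subgroup.relIndex_sup_right (H := N1) (K := A), hfr2, Subgroup.relIndex_top_right]
  have hc4 : Nat.card (A.subgroupOf N1) * A.relIndex N1 = Nat.card N1 :=
    Subgroup.card_mul_index (A.subgroupOf N1)
  have h6A : 6 ∣ Nat.card A := by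
    have hpos : 0 < A.index := Nat.pos_of_ne_zero Subgroup.index_ne_zero_of_finite
    refine ⟨Nat.card (A.subgroupOf N1), ?_⟩
    have e : Nat.card A * A.index = (6 * Nat.card (A.subgroupOf N1)) * A.index := by
      rw [hc1, ← hc2, ← hc4, hc3, hN1i]
      ring
    exact Nat.eq_of_mul_eq_mul_right hpos e
  obtain ⟨i, hi⟩ := hAp.exists_card_eq
  rw [hi] at h6A
  have h2 : q = 2 := ((Nat.prime_dvd_prime_iff_eq Nat.prime_two hq).mp
    (Nat.prime_two.dvd_of_dvd_pow ((by norm_num : 2 ∣ 6).trans h6A))).symm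
  have h3 : q = 3 := ((Nat.prime_dvd_prime_iff_eq Nat.prime_three hq).mp
    (Nat.prime_three.dvd_of_dvd_pow ((by norm_num : 3 ∣ 6).trans h6A))).symm
  omega

/-- [SYL6] -/
theorem pkgSyl6 : PkgSyl6.{u} := by
  intro H _ _ hs
  exact syl6_aux _ H rfl hs

end Cfsg.Agent.Lib.Helper11.FOT
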